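import Cfsg.Agent.H284.EP.Crit

/-!
# S3499: the bridge `EPT → EP` and the local principle in `T`-form (helper131)

For `h : EPT A Γ` let `GG Γ = Inn(Q) Γ ≤ Aut(Q)` and `HH Γ = Γ` as a subgroup of `GG Γ`.

* `toEP h : EP (HH Γ)`; `io Γ : Q →* GG Γ`; `tA M = M ∩ Q`;
* `io_mem`, `stab_iff`, `tA_two`, `mem_twoSet`, `two_inj`, `ncard_twoD` : the two-point stabilisers of `GG Γ` correspond
  to the `M₀ = A ⊓ cj x A`; `index_eq`, `nfix_eq'`: the points of `GG Γ / HH Γ` are the cosets of `A`;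
* `LP`: the local principle; `index_le_sum`.
-/

set_option autoImplicit false
set_option linter.unusedSectionVars false

namespace Cfsg.Agent.H131.EPB

open Subgroup Cfsg.Agent.H284

variable {Q : Type*} [Group Q]

instance conj_range_normal : (MulAut.conj : Q →* MulAut Q).range.Normal := by
  refine ⟨?_⟩
  rintro _ ⟨q, rfl⟩ τ
  exact ⟨τ q, (aut_conj τ q).symm⟩

/-- the group generated by the inner automorphisms and `Γ` -/
def GG (Γ : Subgroup (MulAut Q)) : Subgroup (MulAut Q) := (MulAut.conj : Q →* MulAut Q).range ⊔ Γ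

/-- the point stabiliser -/
def HH (Γ : Subgroup (MulAut Q)) : Subgroup (GG Γ) := Γ.subgroupOf (GG Γ)

/-- the embedding of `Q` -/
def io (Γ : Subgroup (MulAut Q)) : Q →* GG Γ :=
  (MulAut.conj : Q →* MulAut Q).codRestrict (GG Γ) fun q => mem_sup_left ⟨q, rfl⟩

theorem coe_io (Γ : Subgroup (MulAut Q)) (q : Q) : ((io Γ q : GG Γ) : MulAut Q) = MulAut.conj q := rfl

theorem mem_HH {Γ : Subgroup (MulAut Q)} {g : GG Γ} : g ∈ HH Γ ↔ (g : MulAut Q) ∈ Γ := Iff.rfl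

theorem exists_fac {Γ : Subgroup (MulAut Q)} (g : GG Γ) : ∃ q : Q, ∃ γ ∈ HH Γ, g = io Γ q * γ := by
  obtain ⟨g, hg⟩ := g
  have h1 := hg
  rw [GG, Subgroup.mem_sup_of_normal_left] at h1
  obtain ⟨_, ⟨q, rfl⟩, γ, hγ, e⟩ := h1
  exact ⟨q, ⟨γ, mem_sup_right hγ⟩, hγ, Subtype.ext e.symm⟩

/-- the intersection with `Q` -/
def tA {Γ : Subgroup (MulAut Q)} (M : Subgroup (GG Γ)) : Subgroup Q := M.comap (io Γ)

theorem mem_tA {Γ : Subgroup (MulAut Q)} {M : Subgroup (GG Γ)} {q : Q} : q ∈ tA M ↔ io Γ q ∈ M := Iff.rfl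

variable {A : Subgroup Q} {Γ : Subgroup (MulAut Q)} (h : EPT A Γ)

include h

theorem io_mem {q : Q} : io Γ q ∈ HH Γ ↔ q ∈ A := h.conj q

theorem tA_HH : tA (HH Γ) = A := by
  ext q
  exact io_mem h

theorem fac_mem {g γ : GG Γ} {q : Q} (hγ : γ ∈ HH Γ) (e : g = io Γ q * γ) : g ∈ HH Γ ↔ q ∈ A := by
  rw [← io_mem h, e, Subgroup.mul_mem_cancel_right _ hγ]

omit h in
theorem fac_cj {g γ : GG Γ} {q : Q} (hγ : γ ∈ HH Γ) (e : g = io Γ q * γ) : cj g (HH Γ) = cj (io Γ q) (HH Γ) := by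
  rw [e, cj_mul, cj_eq_self hγ]

theorem stab_iff {σ : GG Γ} (hσ : σ ∈ HH Γ) (x : Q) : σ ∈ cj (io Γ x) (HH Γ) ↔ x⁻¹ * (σ : MulAut Q) x ∈ A := by
  have h1 : ((io Γ x)⁻¹ * σ * io Γ x : GG Γ) = io Γ (x⁻¹ * (σ : MulAut Q) x) * σ := by
    apply Subtype.ext
    have h2 := aut_conj (σ : MulAut Q) x
    show (MulAut.conj x)⁻¹ * (σ : MulAut Q) * MulAut.conj x = MulAut.conj (x⁻¹ * (σ : MulAut Q) x) * (σ : MulAut Q)
    rw [map_mul, map_inv, ← h2]
    group
  rw [mem_cj, h1, Subgroup.mul_mem_cancel_right _ hσ, io_mem h]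

theorem io_mem_cj {x q : Q} : io Γ q ∈ cj (io Γ x) (HH Γ) ↔ q ∈ cj x A := by
  rw [mem_cj, mem_cj, ← map_inv, ← map_mul, ← map_mul, io_mem h]

theorem tA_two (x : Q) : tA (HH Γ ⊓ cj (io Γ x) (HH Γ)) = A ⊓ cj x A := by
  ext q
  rw [mem_tA, mem_inf, mem_inf, io_mem h, io_mem_cj h]

/-- the centre of `Q` meets `A` trivially -/
theorem center_inf : A ⊓ center Q = ⊥ := by
  obtain ⟨x, hx⟩ := h.exists_notMem
  apply h.F1 x hx (A ⊓ center Q) inf_le_left
  · intro σ hσ k hk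
    refine ⟨(h.inv σ hσ k).2 (mem_inf.1 hk).1, ?_⟩
    have hk2 := (mem_inf.1 hk).2
    show σ k ∈ center Q
    rw [mem_center_iff] at hk2 ⊢
    intro g
    have := congrArg σ (hk2 (σ⁻¹ g))
    rwa [map_mul, map_mul, MulAut.apply_inv_self] at this
  · intro k hk
    rw [mem_cj, mul_assoc, ← (mem_center_iff.1 (mem_inf.1 hk).2 x), inv_mul_cancel_left]
    exact (mem_inf.1 hk).1

/-- **the bridge** -/
theorem toEP : EP (HH Γ) := by
  obtain ⟨x₀, hx₀⟩ := h.exists_notMem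
  refine ⟨⟨?_, ?_⟩, ?_, ?_, ?_⟩
  · intro e
    apply hx₀
    rw [← io_mem h, e]
    exact mem_top _
  · intro L hL
    have h1 : A < tA L := by
      refine lt_of_le_of_ne ?_ ?_
      · rw [← tA_HH h]
        exact Subgroup.comap_mono hL.le
      · intro e
        apply hL.not_ge
        intro g hg
        obtain ⟨q, γ, hγ, rfl⟩ := exists_fac g
        have h2 : io Γ q ∈ L := (Subgroup.mul_mem_cancel_right _ (hL.le hγ)).1 hg
        have h3 : q ∈ A := by rw [e]; exact h2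
        exact (HH Γ).mul_mem ((io_mem h).2 h3) hγ
    have h2 := h.max.2 _ h1
    rw [Subgroup.eq_top_iff']
    intro g
    obtain ⟨q, γ, hγ, rfl⟩ := exists_fac g
    refine L.mul_mem ?_ (hL.le hγ)
    have : q ∈ tA L := by rw [h2]; exact mem_top _
    exact this
  · have hn : (HH Γ).normalCore.Normal := Subgroup.normalCore_normal _
    have hle : (HH Γ).normalCore ≤ HH Γ := Subgroup.normalCore_le _
    generalize (HH Γ).normalCore = N at hn hle
    have h1 : N.map (GG Γ).subtype = ⊥ := by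
      refine h.F1' x₀ hx₀ (N.map (GG Γ).subtype) ?_ ?_ ?_
      · rintro _ ⟨k, hk, rfl⟩
        exact hle hk
      · rintro σ hσ _ ⟨k, hk, rfl⟩
        have h2 := hn.conj_mem k hk ⟨σ, mem_sup_right hσ⟩
        exact ⟨_, h2, rfl⟩
      · rintro _ ⟨k, hk, rfl⟩
        have hkH : k ∈ HH Γ := hle hk
        refine (stab_iff h hkH x₀).1 ?_
        rw [mem_cj]
        have h2 := hn.conj_mem k hk (io Γ x₀)⁻¹
        rw [inv_inv] at h2
        exact hle h2
    rwa [Subgroup.map_eq_bot_iff_of_injective _ (GG Γ).subtype_injective] at h1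
  · intro e
    apply h.ne
    rw [← center_inf h, left_eq_inf]
    intro a ha
    have h1 : io Γ a ∈ HH Γ := (io_mem h).2 ha
    rw [e, mem_bot] at h1
    have h2 : MulAut.conj a = 1 := congrArg Subtype.val h1
    rw [mem_center_iff]
    intro g
    have h3 := congrArg (fun f : MulAut Q => f g) h2
    simp only [MulAut.conj_apply, MulAut.one_apply] at h3
    rw [mul_inv_eq_iff_eq_mul] at h3
    exact h3.symm
  · intro x hx L h1 h2
    obtain ⟨q, γ, hγ, e⟩ := exists_fac x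
    rw [fac_mem h hγ e] at hx
    rw [fac_cj hγ e] at h1 ⊢
    rcases h.two q hx (L.map (GG Γ).subtype) (by
        rintro _ ⟨l, hl, rfl⟩
        exact h2 hl) (by
        intro σ hσ hσq
        refine ⟨⟨σ, mem_sup_right hσ⟩, h1 ⟨hσ, ?_⟩, rfl⟩
        exact (stab_iff h (σ := ⟨σ, mem_sup_right hσ⟩) hσ q).2 hσq) with h3 | h3
    · right
      apply le_antisymm h2
      intro σ hσ
      have h4 : (σ : MulAut Q) ∈ L.map (GG Γ).subtype := by rw [h3]; exact hσ
      obtain ⟨l, hl, e1⟩ := h4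
      have : l = σ := Subtype.ext e1
      rwa [← this]
    · left
      refine le_antisymm ?_ h1
      intro l hl
      exact ⟨h2 hl, (stab_iff h (h2 hl) q).2 (h3 _ ⟨l, hl, rfl⟩)⟩

/-! ### two-point stabilisers -/

theorem mem_twoSet {M : Subgroup (GG Γ)} : M ∈ EP.twoSet (HH Γ) ↔ ∃ x, x ∉ A ∧ M = HH Γ ⊓ cj (io Γ x) (HH Γ) := by
  constructor
  · rintro ⟨g, hg, rfl⟩
    obtain ⟨q, γ, hγ, e⟩ := exists_fac g
    exact ⟨q, fun hq => hg ((fac_mem h hγ e).2 hq), by rw [fac_cj hγ e]⟩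
  · rintro ⟨x, hx, rfl⟩
    exact ⟨io Γ x, fun hq => hx ((io_mem h).1 hq), rfl⟩

/-- the two-point stabiliser is determined by its intersection with `Q` -/
theorem two_le {x y : Q} (hx : x ∉ A) (e : A ⊓ cj x A = A ⊓ cj y A) :
    HH Γ ⊓ cj (io Γ y) (HH Γ) ≤ HH Γ ⊓ cj (io Γ x) (HH Γ) := by
  rintro σ ⟨hσ, hσy⟩
  refine ⟨hσ, (stab_iff h hσ x).2 ?_⟩
  refine h.norm x hx (A ⊓ cj x A) le_rfl ?_ (h.M0 x hx) (σ : MulAut Q) hσ ?_
  · intro τ hτ hτx k hk
    exact h.stab_M0 hτ hτx hk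
  · intro k hk
    rw [e] at hk ⊢
    exact h.stab_M0 hσ ((stab_iff h hσ y).1 hσy) hk

theorem two_inj {x y : Q} (hx : x ∉ A) (hy : y ∉ A) (e : A ⊓ cj x A = A ⊓ cj y A) :
    HH Γ ⊓ cj (io Γ x) (HH Γ) = HH Γ ⊓ cj (io Γ y) (HH Γ) :=
  le_antisymm (two_le h hy e.symm) (two_le h hx e)

/-- the number of two-point stabilisers containing `D` -/
theorem ncard_twoD (D : Subgroup Q) :
    (EP.twoSetD (HH Γ) (D.map (io Γ))).ncard = (EP.twoSetD A D).ncard := by
  refine Set.ncard_congr (fun M _ => tA M) ?_ ?_ ?_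
  · rintro M ⟨hM, hD⟩
    obtain ⟨x, hx, rfl⟩ := (mem_twoSet h).1 hM
    rw [tA_two h]
    refine ⟨⟨x, hx, rfl⟩, ?_⟩
    rw [← tA_two h]
    exact Subgroup.map_le_iff_le_comap.1 hD
  · rintro M N ⟨hM, -⟩ ⟨hN, -⟩ e
    obtain ⟨x, hx, rfl⟩ := (mem_twoSet h).1 hM
    obtain ⟨y, hy, rfl⟩ := (mem_twoSet h).1 hN
    rw [tA_two h, tA_two h] at e
    exact two_inj h hx hy e
  · rintro _ ⟨⟨x, hx, rfl⟩, hD⟩
    refine ⟨HH Γ ⊓ cj (io Γ x) (HH Γ), ⟨(mem_twoSet h).2 ⟨x, hx, rfl⟩, ?_⟩, tA_two h x⟩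
    rw [Subgroup.map_le_iff_le_comap]
    change D ≤ tA _
    rw [tA_two h]
    exact hD

theorem ncard_two : (EP.twoSet (HH Γ)).ncard = (EP.twoSet A).ncard := by
  have h1 := ncard_twoD h ⊥
  have e1 : EP.twoSetD (HH Γ) ((⊥ : Subgroup Q).map (io Γ)) = EP.twoSet (HH Γ) := by
    ext M
    exact ⟨fun h => h.1, fun h => ⟨h, by rw [Subgroup.map_bot]; exact bot_le⟩⟩
  have e2 : EP.twoSetD A ⊥ = EP.twoSet A := by
    ext M
    exact ⟨fun h => h.1, fun h => ⟨h, bot_le⟩⟩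
  rwa [e1, e2] at h1

/-! ### points -/

/-- the points of `GG / HH` are the cosets of `A` -/
noncomputable def ptEquiv : Q ⧸ A ≃ GG Γ ⧸ HH Γ :=
  Equiv.ofBijective (Quotient.lift (fun q : Q => ((io Γ q : GG Γ) : GG Γ ⧸ HH Γ)) (by
    intro a b hab
    rw [QuotientGroup.eq, ← map_inv, ← map_mul, io_mem h]
    exact QuotientGroup.leftRel_apply.1 hab)) (by
    constructor
    · intro a b
      induction a using QuotientGroup.induction_on with
      | H a =>
        induction b using QuotientGroup.induction_on with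
        | H b =>
          intro hab
          have h1 : ((io Γ a : GG Γ) : GG Γ ⧸ HH Γ) = ((io Γ b : GG Γ) : GG Γ ⧸ HH Γ) := hab
          rw [QuotientGroup.eq, ← map_inv, ← map_mul, io_mem h] at h1
          exact QuotientGroup.eq.2 h1
    · intro c
      induction c using QuotientGroup.induction_on with
      | H g =>
        obtain ⟨q, γ, hγ, e⟩ := exists_fac g
        refine ⟨(q : Q ⧸ A), ?_⟩
        change ((io Γ q : GG Γ) : GG Γ ⧸ HH Γ) = (g : GG Γ ⧸ HH Γ)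
        rw [QuotientGroup.eq, e, inv_mul_cancel_left]
        exact hγ)

theorem ptEquiv_apply (q : Q) : ptEquiv h (q : Q ⧸ A) = ((io Γ q : GG Γ) : GG Γ ⧸ HH Γ) := rfl

theorem index_eq : (HH Γ).index = A.index := (Nat.card_congr (ptEquiv h)).symm

theorem nfix_io (D : Subgroup Q) : EP.nfix (HH Γ) (D.map (io Γ)) = EP.nfix A D := by
  symm
  unfold EP.nfix
  refine Set.ncard_congr (fun c _ => ptEquiv h c) ?_ ?_ ?_
  · intro c hc
    induction c using QuotientGroup.induction_on with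
    | H q =>
      rintro _ ⟨d, hd, rfl⟩
      have h1 := hc d hd
      have h2 : ptEquiv h (d • (q : Q ⧸ A)) = ptEquiv h (q : Q ⧸ A) := by rw [h1]
      rw [MulAction.Quotient.smul_coe, smul_eq_mul, ptEquiv_apply, ptEquiv_apply, map_mul] at h2
      rw [ptEquiv_apply, MulAction.Quotient.smul_coe, smul_eq_mul]
      exact h2
  · intro a b _ _ e
    exact (ptEquiv h).injective e
  · intro c hc
    obtain ⟨c, rfl⟩ := (ptEquiv h).surjective c
    refine ⟨c, ?_, rfl⟩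
    induction c using QuotientGroup.induction_on with
    | H q =>
      intro d hd
      have h1 := hc _ ⟨d, hd, rfl⟩
      apply (ptEquiv h).injective
      rw [ptEquiv_apply, MulAction.Quotient.smul_coe, smul_eq_mul] at h1
      rw [MulAction.Quotient.smul_coe, smul_eq_mul, ptEquiv_apply, ptEquiv_apply, map_mul]
      exact h1

/-- a line is contained in the fixed points of `M₀` -/
theorem nfix_two_le [Finite Q] {x : Q} : EP.nfix (HH Γ) (HH Γ ⊓ cj (io Γ x) (HH Γ)) ≤ EP.nfix A (A ⊓ cj x A) := by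
  rw [← nfix_io h]
  refine Set.ncard_le_ncard ?_ (Set.toFinite _)
  intro c hc m hm
  apply hc
  have h1 : (A ⊓ cj x A).map (io Γ) ≤ HH Γ ⊓ cj (io Γ x) (HH Γ) := by
    rw [Subgroup.map_le_iff_le_comap]
    change _ ≤ tA _
    rw [tA_two h]
  exact h1 hm

/-- `|Q : A| ≤ 1 + ∑ (|fix M₀| - 1)` -/
theorem index_le_sum [Finite Q] : A.index ≤ 1 + ∑ᶠ M ∈ EP.twoSet A, (EP.nfix A M - 1) := by
  classical
  have h1 := (toEP h).index_eq_sum
  rw [index_eq h] at h1
  rw [h1]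
  refine Nat.add_le_add_left ?_ 1
  have hf1 : (EP.twoSet (HH Γ)).Finite := Set.toFinite _
  have hf2 : (EP.twoSet A).Finite := Set.toFinite _
  rw [finsum_mem_eq_finite_toFinset_sum _ hf1, finsum_mem_eq_finite_toFinset_sum _ hf2]
  refine le_trans (Finset.sum_le_sum (g := fun M : Subgroup (GG Γ) => EP.nfix A (tA M) - 1) ?_) ?_
  · intro M hM
    rw [Set.Finite.mem_toFinset] at hM
    obtain ⟨x, hx, rfl⟩ := (mem_twoSet h).1 hM
    rw [tA_two h]
    exact Nat.sub_le_sub_right (nfix_two_le h) 1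
  · refine le_of_eq (Finset.sum_bij (fun M _ => tA M) ?_ ?_ ?_ ?_)
    · intro M hM
      rw [Set.Finite.mem_toFinset] at hM ⊢
      obtain ⟨x, hx, rfl⟩ := (mem_twoSet h).1 hM
      rw [tA_two h]
      exact ⟨x, hx, rfl⟩
    · intro M hM N hN e
      rw [Set.Finite.mem_toFinset] at hM hN
      obtain ⟨x, hx, rfl⟩ := (mem_twoSet h).1 hM
      obtain ⟨y, hy, rfl⟩ := (mem_twoSet h).1 hN
      rw [tA_two h, tA_two h] at e
      exact two_inj h hx hy e
    · intro M hM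
      rw [Set.Finite.mem_toFinset] at hM
      obtain ⟨x, hx, rfl⟩ := hM
      refine ⟨HH Γ ⊓ cj (io Γ x) (HH Γ), ?_, tA_two h x⟩
      rw [Set.Finite.mem_toFinset]
      exact (mem_twoSet h).2 ⟨x, hx, rfl⟩
    · intro M _
      rfl

/-! ### the local principle -/

/-- **(LP)** -/
theorem LP [Finite Q] {D C : Subgroup Q} (hD : D ≤ A) (hC : ∀ c ∈ C, cj c D = D) :
    C ≤ A ∨ (∃ M ∈ EP.twoSetD A D, ∀ c ∈ C, cj c M = M) ∨
      (EP.nfix A D ≤ 1 + (EP.twoSetD A D).ncard * ((EP.twoSetD A D).ncard - 1) ∧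
        A.relIndex C ≤ 1 + (EP.twoSetD A D).ncard * ((EP.twoSetD A D).ncard - 1)) := by
  have hmapcj : ∀ (c : Q) (D : Subgroup Q), (cj c D).map (io Γ) = cj (io Γ c) (D.map (io Γ)) := by
    intro c D
    ext g
    constructor
    · rintro ⟨q, hq, rfl⟩
      have hq' : c⁻¹ * q * c ∈ D := mem_cj.1 hq
      rw [mem_cj]
      exact ⟨_, hq', by rw [map_mul, map_mul, map_inv]⟩
    · intro hg
      rw [mem_cj] at hg
      obtain ⟨d, hd, e⟩ := hg
      refine ⟨c * d * c⁻¹, conj_mem_cj hd, ?_⟩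
      rw [map_mul, map_mul, map_inv, e]
      group
  have h1 := (toEP h).LP (D := D.map (io Γ)) (C := C.map (io Γ)) (by
    rintro _ ⟨d, hd, rfl⟩
    exact (io_mem h).2 (hD hd)) (by
    rintro _ ⟨c, hc, rfl⟩
    rw [← hmapcj, hC c hc])
  rw [nfix_io h, ncard_twoD h] at h1
  rcases h1 with h1 | ⟨M, ⟨hM, hDM⟩, hcM⟩ | ⟨h1, h2⟩
  · left
    intro c hc
    exact (io_mem h).1 (h1 ⟨c, hc, rfl⟩)
  · right; left
    obtain ⟨x, hx, rfl⟩ := (mem_twoSet h).1 hM
    refine ⟨A ⊓ cj x A, ⟨⟨x, hx, rfl⟩, ?_⟩, ?_⟩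
    · rw [← tA_two h]
      exact Subgroup.map_le_iff_le_comap.1 hDM
    · intro c hc
      have h2 := hcM _ ⟨c, hc, rfl⟩
      ext q
      rw [mem_cj, ← tA_two h, mem_tA, mem_tA, map_mul, map_mul, map_inv, ← mem_cj, h2]
  · right; right
    refine ⟨h1, le_trans ?_ h2⟩
    apply le_of_eq
    rw [Subgroup.relIndex, Subgroup.relIndex]
    have e : A.subgroupOf C = ((HH Γ).subgroupOf (C.map (io Γ))).comap ((io Γ).subgroupMap C) := by
      ext c
      rw [mem_comap, mem_subgroupOf, mem_subgroupOf]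
      exact (io_mem h).symm
    rw [e, Subgroup.index_comap_of_surjective _ ((io Γ).subgroupMap_surjective C)]

/-- **(LP)** for the centraliser of `D` -/
theorem LP_cent [Finite Q] {D C : Subgroup Q} (hD : D ≤ A) (hC : ∀ c ∈ C, ∀ d ∈ D, c * d = d * c) :
    C ≤ A ∨ (∃ x, x ∉ A ∧ D ≤ A ⊓ cj x A ∧ ∀ c ∈ C, cj c (A ⊓ cj x A) = A ⊓ cj x A) ∨
      A.relIndex C ≤ 1 + (EP.twoSetD A D).ncard * ((EP.twoSetD A D).ncard - 1) := by
  rcases LP h hD (C := C) (by
    intro c hc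
    ext q
    rw [mem_cj]
    constructor
    · intro hq
      have e := hC c hc _ hq
      have : q = c⁻¹ * q * c := by
        calc q = c * (c⁻¹ * q * c) * c⁻¹ := by group
          _ = (c⁻¹ * q * c) * c * c⁻¹ := by rw [e]
          _ = _ := by group
      rw [this]
      exact hq
    · intro hq
      rw [mul_assoc, ← hC c hc q hq, inv_mul_cancel_left]
      exact hq) with h1 | ⟨_, ⟨⟨x, hx, rfl⟩, hDM⟩, hcM⟩ | h1
  · exact Or.inl h1
  · exact Or.inr (Or.inl ⟨x, hx, hDM, hcM⟩)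
  · exact Or.inr (Or.inr h1.2)

end Cfsg.Agent.H131.EPB
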